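import Groth.Agent.Lib.Cyc.Dev.Main
import Groth.Agent.Lib.PushClosed.Unit
import Groth.Agent.Lib.CohBasics.Closure
import Groth.Agent.Lib.QCoh.Pushforward
import Groth.Agent.Lib.QCoh.Pullback
import Groth.Agent.Lib.StalkLoc.Basic
import Mathlib.CategoryTheory.Abelian.GrothendieckCategory.Basic
import Mathlib.LinearAlgebra.TensorProduct.Quotient
import Mathlib.RingTheory.Finiteness.Ideal

/-!
Dévissage along a closed immersion of a locally Noetherian scheme.
-/

set_option autoImplicit false
set_option linter.style.haveILetI false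

universe u

open CategoryTheory Limits AlgebraicGeometry Opposite TopologicalSpace
open scoped TensorProduct

namespace Groth.Agent.Lib.Cyc.Dev.SchemeCase

open Groth.Agent.Lib Groth.Agent.Lib.Modules.StalkModule Groth.Agent.Lib.DerivedOX.PullbackStalk
open Groth.Agent.Lib.Cyc.Dev.Main Groth.Agent.Lib.Cyc.Dev.Swindle

variable {X Z : Scheme.{u}}

noncomputable section

/-- Locally finite families. -/
def LF (F : ℕ → X.Modules) : Prop :=
  ∀ x : X, ∃ U : X.Opens, x ∈ U ∧ ∃ N, ∀ n, N ≤ n → ∀ y ∈ U, Subsingleton ((F n).presheaf.stalk y)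

instance preservesColimitsOfShape_stalk (x : X) :
    PreservesColimitsOfShape (Discrete ℕ) (Modules.Stalk.stalkFunctor X x) := by
  haveI := preservesColimitsOfSize_shrink.{0, u, 0, u} (Modules.Stalk.stalkFunctor X x)
  infer_instance

lemma lf_mono {F G : ℕ → X.Modules} (f : ∀ n, F n ⟶ G n) (hf : ∀ n, Mono (f n)) (hG : LF G) :
    LF F := fun x => by
  obtain ⟨U, hx, N, h⟩ := hG x
  refine ⟨U, hx, N, fun n hn y hy => ?_⟩
  haveI := h n hn y hy
  exact ((mono_iff_stalkMapₗ_injective (f n)).1 (hf n) y).subsingleton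

lemma lf_epi {F G : ℕ → X.Modules} (f : ∀ n, F n ⟶ G n) (hf : ∀ n, Epi (f n)) (hF : LF F) :
    LF G := fun x => by
  obtain ⟨U, hx, N, h⟩ := hF x
  refine ⟨U, hx, N, fun n hn y hy => ?_⟩
  haveI := h n hn y hy
  exact ((epi_iff_stalkMapₗ_surjective (f n)).1 (hf n) y).subsingleton

/-- A morphism out of a countable sum vanishing on every summand at a point vanishes there. -/
lemma stalkMap_eq_zero {F : ℕ → X.Modules} {G : X.Modules} (φ : ∐ F ⟶ G) (y : X)
    (h : ∀ n v, stalkMapₗ φ y (stalkMapₗ (Sigma.ι F n) y v) = 0)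
    (v : (∐ F).presheaf.stalk y) : stalkMapₗ φ y v = 0 := by
  have hc := isColimitCofanMkObjOfIsColimit (Modules.Stalk.stalkFunctor X y) _ _
    (coproductIsCoproduct F)
  have e : (Modules.Stalk.stalkFunctor X y).map φ = 0 := by
    refine Cofan.IsColimit.hom_ext hc _ _ fun n => ?_
    ext w
    exact h n w
  rw [stalkMapₗ_apply, e]
  rfl

/-- The images of the summands generate the stalks of a countable sum. -/
lemma span_stalk_sigma (F : ℕ → X.Modules) (y : X)
    (W : Submodule (X.presheaf.stalk y) ((∐ F).presheaf.stalk y))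
    (h : ∀ n v, stalkMapₗ (Sigma.ι F n) y v ∈ W) : W = ⊤ := by
  have hc := isColimitCofanMkObjOfIsColimit (Modules.Stalk.stalkFunctor X y) _ _
    (coproductIsCoproduct F)
  let q : (Modules.Stalk.stalkFunctor X y).obj (∐ F) ⟶
      AddCommGrpCat.of ((∐ F).presheaf.stalk y ⧸ W) :=
    AddCommGrpCat.ofHom W.mkQ.toAddMonoidHom
  have e : q = 0 := by
    refine Cofan.IsColimit.hom_ext hc _ _ fun n => ?_
    ext w
    exact (Submodule.Quotient.mk_eq_zero W).2 (h n w)
  refine eq_top_iff.2 fun v _ => (Submodule.Quotient.mk_eq_zero W).1 ?_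
  exact congrArg (fun k => (ConcreteCategory.hom k) v) e

lemma lf_pow {F : ℕ → X.Modules} (hF : LF F) (T : ∐ F ⟶ ∐ F)
    (hT : ∀ n m, n < m → Sigma.ι F n ≫ powT T m = 0)
    (Y : ℕ → X.Modules) (e : ∀ m, ∐ F ⟶ Y m) (inc : ∀ m, Y m ⟶ ∐ F)
    (he : ∀ m, Epi (e m)) (hinc : ∀ m, Mono (inc m)) (hw : ∀ m, e m ≫ inc m = powT T m) :
    LF Y := fun x => by
  obtain ⟨U, hx, N, h⟩ := hF x
  refine ⟨U, hx, N, fun m hm y hy => ⟨fun a b => ?_⟩⟩
  suffices ∀ a : (Y m).presheaf.stalk y, a = 0 from (this a).trans (this b).symm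
  intro a
  obtain ⟨v, rfl⟩ := (epi_iff_stalkMapₗ_surjective (e m)).1 (he m) y a
  refine (mono_iff_stalkMapₗ_injective (inc m)).1 (hinc m) y ?_
  rw [map_zero, ← LinearMap.comp_apply, ← stalkMapₗ_comp, hw m]
  refine stalkMap_eq_zero _ y (fun n w => ?_) v
  by_cases hn : n < m
  · rw [← LinearMap.comp_apply, ← stalkMapₗ_comp, hT n m hn, stalkMapₗ_zero, LinearMap.zero_apply]
  · haveI := h n (by omega) y hy
    rw [Subsingleton.elim w 0, map_zero, map_zero]

lemma isQCoh_sigma (F : ℕ → X.Modules) (h : ∀ n, (F n).IsQuasicoherent) :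
    (∐ F).IsQuasicoherent := by
  haveI := h
  let F' : ULift.{u} ℕ → X.Modules := fun n => F n.down
  let e := Discrete.equivalence (Equiv.ulift.{u, 0} (α := ℕ))
  have := QCoh.Closure.isQCoh_of_isColimit
    ((colimit.isColimit (Discrete.functor F)).whiskerEquivalence e) fun j => h _
  exact this

lemma sigma_isCoh [IsLocallyNoetherian X] (F : ℕ → X.Modules) (hF : LF F)
    (h : ∀ n, Coh.IsCoh (F n)) : Coh.IsCoh (∐ F) := by
  haveI := isQCoh_sigma F fun n => (h n).1
  refine ⟨inferInstance, CohBasics.Affine.isFiniteType_of_finite_sections fun x => ?_⟩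
  obtain ⟨V, hx, N, hN⟩ := hF x
  obtain ⟨U, hU, hxU, hUV⟩ := exists_isAffineOpen_mem_and_subset (X := X) (x := x) (U := V) hx
  refine ⟨U, hU, hxU, ?_⟩
  haveI := fun n => CohBasics.Closure.finite_sections (h n) hU
  classical
  choose s hs using fun n => (Module.finite_def.1 (this n))
  let S : Finset Γ(∐ F, U) := (Finset.range N).biUnion fun n => (s n).image ((Sigma.ι F n).app U)
  refine Module.finite_def.2 ⟨S, ?_⟩
  refine CohBasics.Affine.span_eq_top_of_germ hU _ fun y hy => span_stalk_sigma F y _ fun n v => ?_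
  by_cases hn : n < N
  · haveI := (h n).1
    have hv : v ∈ Submodule.span (X.presheaf.stalk y) ((F n).presheaf.germ U y hy '' (s n : Set Γ(F n, U))) := by
      rw [CohBasics.Affine.germ_span_eq_top hU _ (hs n) hy]; trivial
    have := Submodule.apply_mem_span_image_of_mem_span (stalkMapₗ (Sigma.ι F n) y) hv
    refine Submodule.span_mono ?_ this
    rintro _ ⟨_, ⟨t, ht, rfl⟩, rfl⟩
    refine ⟨(Sigma.ι F n).app U t, ?_, (stalkMapₗ_germ (Sigma.ι F n) hy t).symm⟩
    exact Finset.mem_biUnion.2 ⟨n, Finset.mem_range.2 hn, Finset.mem_image_of_mem _ ht⟩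
  · haveI := hN n (by omega) y (hUV hy)
    rw [Subsingleton.elim v 0, map_zero]
    exact Submodule.zero_mem _

variable (i : Z ⟶ X) [IsClosedImmersion i]

/-- The layer functor `i_* i^*`. -/
abbrev R : X.Modules ⥤ X.Modules := Scheme.Modules.pullback i ⋙ Scheme.Modules.pushforward i

/-- The unit. -/
abbrev η : 𝟭 X.Modules ⟶ R i := (Scheme.Modules.pullbackPushforwardAdjunction i).unit

instance preservesColimitsOfSize₀_push :
    PreservesColimitsOfSize.{0, 0} (Scheme.Modules.pushforward i) :=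
  preservesColimitsOfSize_shrink.{0, u, 0, u} _

theorem isIso_counit (N : Z.Modules) :
    IsIso ((Scheme.Modules.pullbackPushforwardAdjunction i).counit.app N) := by
  let adj := Scheme.Modules.pullbackPushforwardAdjunction i
  haveI : Epi (adj.unit.app ((Scheme.Modules.pushforward i).obj N)) := PushClosed.Unit.epi_unit i _
  have h := adj.right_triangle_components N
  haveI : IsSplitMono (adj.unit.app ((Scheme.Modules.pushforward i).obj N)) := ⟨⟨⟨_, h⟩⟩⟩
  haveI : IsIso (adj.unit.app ((Scheme.Modules.pushforward i).obj N)) := isIso_of_epi_of_isSplitMono _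
  haveI hpush : IsIso ((Scheme.Modules.pushforward i).map (adj.counit.app N)) := by
    rw [← IsIso.inv_eq_of_hom_inv_id h]
    infer_instance
  rw [isIso_iff_stalkMapₗ_bijective]
  intro z
  have h1 := PushClosed.Unit.bijective_pushStalkMap i (((Scheme.Modules.pullback i)).obj ((Scheme.Modules.pushforward i).obj N)) z
  have h2 := PushClosed.Unit.bijective_pushStalkMap i N z
  have h3 := (isIso_iff_stalkMapₗ_bijective _).1 hpush (i.base z)
  refine (Function.Bijective.of_comp_iff _ h1).1 ?_
  have : (stalkMapₗ (adj.counit.app N) z) ∘ (pushStalkMap i z _) =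
      (pushStalkMap i z N) ∘ stalkMapₗ ((Scheme.Modules.pushforward i).map (adj.counit.app N)) (i.base z) :=
    funext fun a => (pushStalkMap_natural i z (adj.counit.app N) a).symm
  exact this ▸ h2.comp h3

theorem isIso_unit_push (N : Z.Modules) :
    IsIso ((η i).app ((Scheme.Modules.pushforward i).obj N)) := by
  haveI := isIso_counit i N
  exact IsIso.of_isIso_fac_right ((Scheme.Modules.pullbackPushforwardAdjunction i).right_triangle_components N)

/-- The kernel of `M → i_* i^* M` is contained in `J M` at the points of `Z`. -/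
theorem stalk_kernel_unit_le (M : X.Modules) (z : Z) (a : M.presheaf.stalk (i.base z))
    (ha : stalkMapₗ ((η i).app M) (i.base z) a = 0) :
    a ∈ RingHom.ker (i.stalkMap z).hom • (⊤ : Submodule (X.presheaf.stalk (i.base z)) (M.presheaf.stalk (i.base z))) := by
  letI : Algebra (X.presheaf.stalk (i.base z)) (Z.presheaf.stalk z) := (i.stalkMap z).hom.toAlgebra
  haveI := isIso_comparison i z
  have h := comparison_one_tmul i z M a
  rw [ha, map_zero] at h
  have h0 : (1 : Z.presheaf.stalk z) ⊗ₜ[X.presheaf.stalk (i.base z)] a = 0 :=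
    (ConcreteCategory.bijective_of_isIso ((comparison i z).app M)).1
      (h.trans (map_zero ((comparison i z).app M).hom).symm)
  let e : (X.presheaf.stalk (i.base z) ⧸ RingHom.ker (i.stalkMap z).hom) ≃ₐ[X.presheaf.stalk (i.base z)]
      Z.presheaf.stalk z :=
    AlgEquiv.ofRingEquiv (f := RingHom.quotientKerEquivOfSurjective (f := (i.stalkMap z).hom) (i.stalkMap_surjective z))
      (fun c => by
        rw [Ideal.Quotient.algebraMap_eq, RingHom.quotientKerEquivOfSurjective_apply_mk, RingHom.algebraMap_toAlgebra])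
  have h1 := congrArg (LinearEquiv.rTensor (M.presheaf.stalk (i.base z)) e.toLinearEquiv.symm) h0
  rw [LinearEquiv.rTensor_tmul, map_zero] at h1
  have h2 := congrArg (TensorProduct.quotTensorEquivQuotSMul (M.presheaf.stalk (i.base z))
    (RingHom.ker (i.stalkMap z).hom)) h1
  rw [map_zero, show e.toLinearEquiv.symm 1 = Ideal.Quotient.mk _ 1 from map_one e.symm,
    TensorProduct.quotTensorEquivQuotSMul_mk_tmul, one_smul] at h2
  exact (Submodule.Quotient.mk_eq_zero _).1 h2

/-- The inclusions into the module. -/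
def toM (M : X.Modules) : ∀ n, iterI (η i) M n ⟶ M
  | 0 => 𝟙 M
  | n + 1 => kernel.ι _ ≫ toM M n

theorem mono_toM (M : X.Modules) : ∀ n, Mono (toM i M n)
  | 0 => inferInstanceAs (Mono (𝟙 M))
  | n + 1 => have := mono_toM M n; inferInstanceAs (Mono (kernel.ι _ ≫ toM i M n))

theorem stalk_iterI_le (M : X.Modules) (z : Z) : ∀ n (v : (iterI (η i) M n).presheaf.stalk (i.base z)),
    stalkMapₗ (toM i M n) (i.base z) v ∈ RingHom.ker (i.stalkMap z).hom ^ n •
      (⊤ : Submodule (X.presheaf.stalk (i.base z)) (M.presheaf.stalk (i.base z)))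
  | 0, v => by rw [pow_zero, Ideal.one_eq_top, Submodule.top_smul]; trivial
  | n + 1, v => by
    change stalkMapₗ (kernel.ι _ ≫ toM i M n) (i.base z) v ∈ _
    rw [stalkMapₗ_comp, LinearMap.comp_apply]
    have h0 : stalkMapₗ ((η i).app (iterI (η i) M n)) (i.base z)
        (stalkMapₗ (kernel.ι _) (i.base z) v) = 0 := by
      rw [← LinearMap.comp_apply, ← stalkMapₗ_comp, kernel.condition, stalkMapₗ_zero, LinearMap.zero_apply]
    refine Submodule.smul_induction_on (stalk_kernel_unit_le i _ z _ h0) (fun c hc w _ => ?_)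
      fun p q hp hq => by rw [map_add]; exact Submodule.add_mem _ hp hq
    rw [map_smul, pow_succ', Submodule.mul_smul]
    exact Submodule.smul_mem_smul hc (stalk_iterI_le M z n w)

/-- Coherent modules supported inside `Z`. -/
def Q (G : X.Modules) : Prop :=
  Coh.IsCoh G ∧ ∀ x : X, Nontrivial (G.presheaf.stalk x) → x ∈ Set.range ⇑i

theorem ker_stalkMap_le (U : X.affineOpens) (z : Z) (hx : i.base z ∈ U.1) :
    RingHom.ker (i.stalkMap z).hom ≤ (i.ker.ideal U).map (X.presheaf.germ U.1 (i.base z) hx).hom := by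
  intro c hc
  letI := TopCat.Presheaf.algebra_section_stalk X.presheaf ⟨i.base z, hx⟩
  haveI := U.2.isLocalization_stalk ⟨i.base z, hx⟩
  obtain ⟨⟨r, m⟩, hm⟩ := IsLocalization.surj (U.2.primeIdealOf ⟨i.base z, hx⟩).asIdeal.primeCompl c
  have hm' : c * X.presheaf.germ U.1 (i.base z) hx m.1 = X.presheaf.germ U.1 (i.base z) hx r := hm
  have hu : IsUnit (X.presheaf.germ U.1 (i.base z) hx m.1) :=
    IsLocalization.map_units (X.presheaf.stalk (i.base z)) m
  have hx' : z ∈ i ⁻¹ᵁ U.1 := hx
  have hr : Z.presheaf.germ (i ⁻¹ᵁ U.1) z hx' (i.app U.1 r) = 0 := by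
    rw [← Scheme.Hom.germ_stalkMap_apply i U.1 z hx r, ← hm']
    exact (map_mul _ _ _).trans (by rw [RingHom.mem_ker.1 hc, zero_mul])
  have hA : IsAffineOpen (i ⁻¹ᵁ U.1) := U.2.preimage i
  letI := TopCat.Presheaf.algebra_section_stalk Z.presheaf ⟨z, hx'⟩
  haveI := hA.isLocalization_stalk ⟨z, hx'⟩
  obtain ⟨⟨g', hg'⟩, hg0⟩ := (IsLocalization.map_eq_zero_iff
    (hA.primeIdealOf ⟨z, hx'⟩).asIdeal.primeCompl (Z.presheaf.stalk z) (i.app U.1 r)).1 hr
  obtain ⟨g, rfl⟩ := Scheme.Hom.app_surjective i U.1 U.2 g'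
  have hgu' : IsUnit (Z.presheaf.germ (i ⁻¹ᵁ U.1) z hx' (i.app U.1 g)) :=
    IsLocalization.map_units (Z.presheaf.stalk z) (⟨_, hg'⟩ : (hA.primeIdealOf ⟨z, hx'⟩).asIdeal.primeCompl)
  have hgu : IsUnit (X.presheaf.germ U.1 (i.base z) hx g) := by
    rw [← Scheme.Hom.germ_stalkMap_apply i U.1 z hx g] at hgu'
    exact (isUnit_map_iff (i.stalkMap z).hom _).1 hgu'
  have hI : g * r ∈ i.ker.ideal U := by
    rw [Scheme.Hom.ker_apply, RingHom.mem_ker, map_mul]
    exact hg0
  refine (Ideal.mul_unit_mem_iff_mem _ (hgu.mul hu)).1 ?_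
  rw [show c * (X.presheaf.germ U.1 (i.base z) hx g * X.presheaf.germ U.1 (i.base z) hx m.1) =
    X.presheaf.germ U.1 (i.base z) hx (g * r) by rw [map_mul, ← hm']; ring]
  exact Ideal.mem_map_of_mem _ hI

theorem exists_pow_smul_sections [IsLocallyNoetherian X] {G : X.Modules} (hG : Q i G)
    (U : X.affineOpens) : ∃ n, ∀ a ∈ i.ker.ideal U ^ n, ∀ m : Γ(G, U.1), a • m = 0 := by
  haveI := hG.1.1
  haveI := IsLocallyNoetherian.component_noetherian (X := X) U
  haveI := CohBasics.Closure.finite_sections hG.1 U.2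
  have hrad : i.ker.ideal U ≤ (Module.annihilator Γ(X, U.1) Γ(G, U.1)).radical := by
    intro r hr
    obtain ⟨s, hs⟩ := Module.finite_def.1 (inferInstance : Module.Finite Γ(X, U.1) Γ(G, U.1))
    have hm : ∀ m : Γ(G, U.1), r ∈ Ideal.radical (LinearMap.ker (LinearMap.toSpanSingleton Γ(X, U.1) Γ(G, U.1) m)) := by
      intro m
      rw [Ideal.radical_eq_sInf, Submodule.mem_sInf]
      rintro p ⟨hp, hprime⟩
      by_contra hrp
      let y : X := U.2.fromSpec ⟨p, hprime⟩
      have key : ∀ f : Γ(X, U.1), y ∈ X.basicOpen f ↔ f ∉ p := fun f => by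
        show (⟨p, hprime⟩ : PrimeSpectrum _) ∈ U.2.fromSpec ⁻¹ᵁ X.basicOpen f ↔ _
        rw [U.2.fromSpec_preimage_basicOpen]
        exact PrimeSpectrum.mem_basicOpen _ _
      have hyr : y ∈ X.basicOpen r := (key r).2 hrp
      have hyU : y ∈ U.1 := X.basicOpen_le r hyr
      have hyZ : y ∉ Set.range ⇑i := by
        rintro ⟨z, hz⟩
        have hu := (X.mem_basicOpen r y hyU).1 hyr
        have hzU : i.base z ∈ U.1 := hz ▸ hyU
        have hu' : IsUnit (X.presheaf.germ U.1 (i.base z) hzU r) :=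
          (X.mem_basicOpen r (i.base z) hzU).1 (hz ▸ hyr)
        have := hu'.map (i.stalkMap z).hom
        rw [Scheme.Hom.ker_apply, RingHom.mem_ker] at hr
        rw [Scheme.Hom.germ_stalkMap_apply i U.1 z hzU r, hr, map_zero] at this
        exact not_isUnit_zero this
      have h0 : G.presheaf.germ U.1 y hyU m = 0 := by
        haveI : Subsingleton (G.presheaf.stalk y) :=
          not_nontrivial_iff_subsingleton.1 fun h => hyZ (hG.2 y h)
        exact Subsingleton.elim _ _
      obtain ⟨g, hg, hgm⟩ := (StalkLoc.Basic.germ_eq_zero_iff U.2 hyU m).1 h0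
      exact (key g).1 hg (hp (by simpa [LinearMap.mem_ker] using hgm))
    choose k hk using hm
    refine ⟨∑ m ∈ s, k m, Module.mem_annihilator.2 fun m => ?_⟩
    have hm : m ∈ Submodule.span Γ(X, U.1) (s : Set Γ(G, U.1)) := hs ▸ trivial
    induction hm using Submodule.span_induction with
    | mem m hm =>
      have := hk m
      rw [LinearMap.mem_ker, LinearMap.toSpanSingleton_apply] at this
      obtain ⟨l, hl⟩ := Nat.le.dest (Finset.single_le_sum (fun x _ => Nat.zero_le (k x)) hm)
      rw [← hl, pow_add, mul_comm, mul_smul, this, smul_zero]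
    | zero => exact smul_zero _
    | add a b _ _ ha hb => rw [smul_add, ha, hb, add_zero]
    | smul c a _ ha => rw [smul_comm, ha, smul_zero]
  obtain ⟨n, hn⟩ := Ideal.exists_pow_le_of_le_radical_of_fg hrad (Ideal.fg_of_isNoetherianRing _)
  exact ⟨n, fun a ha m => Module.mem_annihilator.1 (hn ha) m⟩

theorem lf_iterI [IsLocallyNoetherian X] {G : X.Modules} (hG : Q i G) : LF (iterI (η i) G) := by
  intro x
  obtain ⟨U, hU, hxU, -⟩ := exists_isAffineOpen_mem_and_subset (X := X) (x := x) (U := ⊤) trivial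
  obtain ⟨N, hN⟩ := exists_pow_smul_sections i hG ⟨U, hU⟩
  refine ⟨U, hxU, N, fun n hn y hy => ⟨fun a b => ?_⟩⟩
  suffices ∀ a : (iterI (η i) G n).presheaf.stalk y, a = 0 from (this a).trans (this b).symm
  intro a
  refine (mono_iff_stalkMapₗ_injective (toM i G n)).1 (mono_toM i G n) y ?_
  rw [map_zero]
  by_cases hyZ : y ∈ Set.range ⇑i
  · obtain ⟨z, rfl⟩ := hyZ
    haveI := hG.1.1
    have hle : RingHom.ker (i.stalkMap z).hom ^ n • (⊤ : Submodule (X.presheaf.stalk (i.base z))
        (G.presheaf.stalk (i.base z))) ≤ ⊥ := by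
      rw [← CohBasics.Affine.germ_span_eq_top hU Set.univ Submodule.span_univ hy]
      refine (Submodule.smul_mono_left ((Ideal.pow_le_pow_right hn).trans
        (Ideal.pow_right_mono (ker_stalkMap_le i ⟨U, hU⟩ z hy) N))).trans ?_
      rw [← Ideal.map_pow, Ideal.map, Submodule.span_smul_span, Submodule.span_le]
      rintro _ ⟨_, ⟨c, hc, rfl⟩, _, ⟨m, -, rfl⟩, rfl⟩
      change X.presheaf.germ U (i.base z) hy c • G.presheaf.germ U (i.base z) hy m = 0
      rw [← germ_smul, hN c hc m, map_zero]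
    exact (Submodule.mem_bot _).1 (hle (stalk_iterI_le i G z n a))
  · haveI : Subsingleton (G.presheaf.stalk y) :=
      not_nontrivial_iff_subsingleton.1 fun h => hyZ (hG.2 y h)
    exact Subsingleton.elim _ _

variable [IsLocallyNoetherian X]

lemma Q_of_mono {A B : X.Modules} (f : A ⟶ B) [Mono f] (hA : Coh.IsCoh A) (hB : Q i B) : Q i A :=
  ⟨hA, fun x hx => hB.2 x <| by
    haveI := hx
    exact ((mono_iff_stalkMapₗ_injective f).1 inferInstance x).nontrivial⟩

lemma Q_of_epi {A B : X.Modules} (f : A ⟶ B) [Epi f] (hB : Coh.IsCoh B) (hA : Q i A) : Q i B :=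
  ⟨hB, fun x hx => hA.2 x <| by
    haveI := hx
    exact ((epi_iff_stalkMapₗ_surjective f).1 inferInstance x).nontrivial⟩

/-- The dévissage setup. -/
def setup : Setup X.Modules where
  R := R i
  η := η i
  pres := by
    haveI : PreservesFiniteColimits (Scheme.Modules.pushforward i) :=
      PreservesColimitsOfSize.preservesFiniteColimits _
    haveI : PreservesFiniteColimits (Scheme.Modules.pullback i) :=
      haveI : PreservesColimitsOfSize.{0, 0} (Scheme.Modules.pullback i) :=
        (Scheme.Modules.pullbackPushforwardAdjunction i).leftAdjoint_preservesColimits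
      PreservesColimitsOfSize.preservesFiniteColimits _
    exact comp_preservesFiniteColimits _ _
  presSigma := by
    haveI : PreservesColimitsOfSize.{0, 0} (Scheme.Modules.pullback i) :=
        (Scheme.Modules.pullbackPushforwardAdjunction i).leftAdjoint_preservesColimits
    infer_instance
  epiη G := PushClosed.Unit.epi_unit i G
  idem G := isIso_unit_push i _
  Q := Q i
  LF := LF
  isoQ e h := Q_of_epi i e.hom (CohBasics.Closure.isCoh_of_iso e h.1) h
  kerQ f hA hB := Q_of_mono i (kernel.ι f) (CohBasics.Closure.isCoh_kernel f hA.1 hB.1.1) hA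
  cokQ f hA hB := Q_of_epi i (cokernel.π f) (CohBasics.Closure.isCoh_cokernel f hA.1.1 hB.1) hB
  RQ {A} hA := by
    haveI := PushClosed.Unit.epi_unit i A
    haveI := hA.1.1
    haveI := QCoh.Pullback.isQCoh_pullback i A
    haveI : ((R i).obj A).IsQuasicoherent :=
      QCoh.Pushforward.isQCoh_pushforward i (M := (Scheme.Modules.pullback i).obj A)
    exact Q_of_epi i ((η i).app A) (CohBasics.Closure.isCoh_of_epi ((η i).app A) hA.1) hA
  sigmaQ F hF h := ⟨sigma_isCoh F hF fun n => (h n).1, fun x hx => by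
    by_contra hxZ
    have hbot := span_stalk_sigma F x ⊥ fun n v => by
      haveI : Subsingleton ((F n).presheaf.stalk x) :=
        not_nontrivial_iff_subsingleton.1 fun hn => hxZ ((h n).2 x hn)
      rw [Subsingleton.elim v 0, map_zero]
      exact Submodule.zero_mem _
    haveI := hx
    obtain ⟨v, hv⟩ := exists_ne (0 : (∐ F).presheaf.stalk x)
    exact hv ((Submodule.mem_bot _).1 (hbot ▸ trivial : v ∈ (⊥ : Submodule (X.presheaf.stalk x) _)))⟩
  mono := lf_mono
  epi := lf_epi
  succ {F} hF x := by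
    obtain ⟨U, hx, N, h⟩ := hF x
    exact ⟨U, hx, N, fun n hn y hy => h (n + 1) (by omega) y hy⟩
  pow := lf_pow
  loc := lf_iterI i

end

end Groth.Agent.Lib.Cyc.Dev.SchemeCase
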