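import Groth.Agent.Lib.Cyc.Dev.Scheme
import Mathlib.CategoryTheory.Abelian.ShortExact

/-!
`K₀(Coh Z) ≃ K₀(Coh_Z X)` for a closed immersion into a locally Noetherian scheme.
-/

set_option autoImplicit false
set_option linter.style.haveILetI false

universe u

open CategoryTheory Limits AlgebraicGeometry

namespace Groth.Agent.Lib.Cyc.Dev.SchemeEquiv

open Groth.Agent.Lib Groth.Agent.Lib.Modules.StalkModule Groth.Agent.Lib.DerivedOX.PullbackStalk
open Groth.Agent.Lib.KRes Groth.Agent.Lib.Cyc.Dev.SchemeCase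

variable {X Z : Scheme.{u}} (i : Z ⟶ X) [IsClosedImmersion i] [IsLocallyNoetherian X]

noncomputable section

lemma isCoh_push {N : Z.Modules} (hN : Coh.IsCoh N) : Coh.IsCoh ((Scheme.Modules.pushforward i).obj N) := by
  haveI := hN.1
  haveI : ((Scheme.Modules.pushforward i).obj N).IsQuasicoherent :=
    QCoh.Pushforward.isQCoh_pushforward i (M := N)
  refine CohBasics.Closure.isCoh_of_finite_sections fun U hU => ?_
  haveI := CohBasics.Closure.finite_sections hN (hU.preimage i)
  obtain ⟨s, hs⟩ := Module.finite_def.1 (inferInstance : Module.Finite Γ(Z, i ⁻¹ᵁ U) Γ(N, i ⁻¹ᵁ U))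
  refine Module.finite_def.2 ⟨s, eq_top_iff.2 ?_⟩
  rintro (m : Γ(N, i ⁻¹ᵁ U)) -
  have hm : m ∈ Submodule.span Γ(Z, i ⁻¹ᵁ U) (s : Set Γ(N, i ⁻¹ᵁ U)) := hs ▸ trivial
  induction hm using Submodule.span_induction with
  | mem m hm => exact Submodule.subset_span hm
  | zero => exact Submodule.zero_mem (Submodule.span Γ(X, U) (show Set Γ((Scheme.Modules.pushforward i).obj N, U) from (↑s : Set Γ(N, i ⁻¹ᵁ U))))
  | add a b _ _ ha hb =>
    exact Submodule.add_mem (Submodule.span Γ(X, U) (show Set Γ((Scheme.Modules.pushforward i).obj N, U) from (↑s : Set Γ(N, i ⁻¹ᵁ U)))) ha hb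
  | smul c a _ ha =>
    obtain ⟨c', rfl⟩ := i.app_surjective U hU c
    exact Submodule.smul_mem (Submodule.span Γ(X, U) (show Set Γ((Scheme.Modules.pushforward i).obj N, U) from (↑s : Set Γ(N, i ⁻¹ᵁ U)))) c' ha

lemma isCoh_of_push {N : Z.Modules} (hq : N.IsQuasicoherent)
    (h : Coh.IsCoh ((Scheme.Modules.pushforward i).obj N)) : Coh.IsCoh N := by
  haveI := hq
  refine ⟨hq, CohBasics.Affine.isFiniteType_of_finite_sections fun z => ?_⟩
  obtain ⟨U, hU, hz, -⟩ := exists_isAffineOpen_mem_and_subset (X := X) (x := i.base z) (U := ⊤) trivial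
  refine ⟨i ⁻¹ᵁ U, hU.preimage i, hz, ?_⟩
  haveI := CohBasics.Closure.finite_sections h hU
  obtain ⟨s, hs⟩ := Module.finite_def.1
    (inferInstance : Module.Finite Γ(X, U) Γ((Scheme.Modules.pushforward i).obj N, U))
  refine Module.finite_def.2 ⟨s, eq_top_iff.2 ?_⟩
  rintro (m : Γ((Scheme.Modules.pushforward i).obj N, U)) -
  have hm : m ∈ Submodule.span Γ(X, U) (s : Set Γ((Scheme.Modules.pushforward i).obj N, U)) :=
    hs ▸ trivial
  induction hm using Submodule.span_induction with
  | mem m hm => exact Submodule.subset_span hm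
  | zero => exact Submodule.zero_mem (Submodule.span Γ(Z, i ⁻¹ᵁ U) (show Set Γ(N, i ⁻¹ᵁ U) from (↑s : Set Γ((Scheme.Modules.pushforward i).obj N, U))))
  | add a b _ _ ha hb =>
    exact Submodule.add_mem (Submodule.span Γ(Z, i ⁻¹ᵁ U) (show Set Γ(N, i ⁻¹ᵁ U) from (↑s : Set Γ((Scheme.Modules.pushforward i).obj N, U)))) ha hb
  | smul c a _ ha =>
    exact Submodule.smul_mem (Submodule.span Γ(Z, i ⁻¹ᵁ U) (show Set Γ(N, i ⁻¹ᵁ U) from (↑s : Set Γ((Scheme.Modules.pushforward i).obj N, U)))) (i.app U c) ha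

lemma push_P {N : Z.Modules} (hN : Coh.IsCoh N) : (setup i).P ((Scheme.Modules.pushforward i).obj N) :=
  ⟨⟨isCoh_push i hN, fun x hx => by
      by_contra h
      haveI := hx
      exact not_subsingleton _ (PushClosed.Unit.subsingleton_stalk_push i N h)⟩,
    isIso_unit_push i N⟩

lemma pull_coh {A : X.Modules} (hA : (setup i).P A) : Coh.IsCoh ((Scheme.Modules.pullback i).obj A) := by
  haveI := hA.1.1.1
  haveI : IsIso ((η i).app A) := hA.2
  exact isCoh_of_push i (QCoh.Pullback.isQCoh_pullback i A)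
    (CohBasics.Closure.isCoh_of_iso (asIso ((η i).app A)) hA.1.1)

theorem exists_equiv :
    ∃ φ : KZero.K0sub (fun F : Z.Modules => Coh.IsCoh F) ≃+
        KZero.K0sub (fun G : X.Modules => Coh.IsCoh G ∧ ∀ x : X, Nontrivial (G.presheaf.stalk x) → x ∈ Set.range ⇑i),
      ∀ F : Z.Modules, Coh.IsCoh F →
        φ (KZero.clSub (fun F : Z.Modules => Coh.IsCoh F) F) =
          KZero.clSub (fun G : X.Modules => Coh.IsCoh G ∧ ∀ x : X, Nontrivial (G.presheaf.stalk x) → x ∈ Set.range ⇑i)
            ((Coh.push i).obj F) := by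
  obtain ⟨φ, hφ⟩ := (setup i).exists_equiv
  haveI : IsLocallyNoetherian Z := LocallyOfFiniteType.isLocallyNoetherian i
  let adj := Scheme.Modules.pullbackPushforwardAdjunction i
  haveI := fun N => isIso_counit i N
  haveI : IsIso adj.counit := NatIso.isIso_of_isIso_app _
  haveI hf : (Scheme.Modules.pushforward i).FullyFaithful := adj.fullyFaithfulROfIsIsoCounit
  haveI := hf.faithful
  haveI : PreservesFiniteColimits (Scheme.Modules.pushforward i) :=
    PreservesColimitsOfSize.preservesFiniteColimits _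
  haveI : (Scheme.Modules.pushforward i).IsRightAdjoint := adj.isRightAdjoint
  haveI : PreservesFiniteLimits (Scheme.Modules.pushforward i) :=
    haveI : PreservesLimitsOfSize.{0, 0} (Scheme.Modules.pushforward i) := inferInstance
    PreservesLimitsOfSize.preservesFiniteLimits _
  let α : KZero.K0sub (fun F : Z.Modules => Coh.IsCoh F) →+ KZero.K0sub (setup i).P :=
    KSub.lift (fun N => KZero.clSub (setup i).P ((Scheme.Modules.pushforward i).obj N))
      fun S hS h₁ h₂ h₃ => KSub.rel (hS.map_of_exact (Scheme.Modules.pushforward i))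
        (push_P i h₁) (push_P i h₂) (push_P i h₃)
  let β : KZero.K0sub (setup i).P →+ KZero.K0sub (fun F : Z.Modules => Coh.IsCoh F) :=
    KSub.lift (fun A => KZero.clSub (fun F : Z.Modules => Coh.IsCoh F) ((Scheme.Modules.pullback i).obj A))
      fun S hS h₁ h₂ h₃ => by
        have i1 : IsIso ((η i).app S.X₁) := h₁.2
        have i2 : IsIso ((η i).app S.X₂) := h₂.2
        have i3 : IsIso ((η i).app S.X₃) := h₃.2
        have hS' : (S.map (Scheme.Modules.pullback i)).ShortExact := by
          refine ShortExact.reflects_shortExact_of_faithful (Scheme.Modules.pushforward i) ?_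
          refine ShortComplex.shortExact_of_iso ?_ hS
          exact ShortComplex.isoMk (@asIso _ _ _ _ _ i1) (@asIso _ _ _ _ _ i2)
            (@asIso _ _ _ _ _ i3) ((η i).naturality S.f).symm ((η i).naturality S.g).symm
        exact KSub.rel hS' (pull_coh i h₁) (pull_coh i h₂) (pull_coh i h₃)
  have hα : ∀ N, Coh.IsCoh N → α (KZero.clSub (fun F : Z.Modules => Coh.IsCoh F) N) =
      KZero.clSub (setup i).P ((Scheme.Modules.pushforward i).obj N) := fun N hN => KSub.lift_cl _ _ hN
  have h1 : β.comp α = AddMonoidHom.id _ := KSub.hom_ext fun N hN => by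
    rw [AddMonoidHom.comp_apply, hα N hN, KSub.lift_cl _ _ (push_P i hN), AddMonoidHom.id_apply]
    haveI := isIso_counit i N
    have hN' := pull_coh i (push_P i hN)
    let z0 := cokernel (𝟙 N)
    exact Swindle.clSub_congr (asIso (adj.counit.app N)) hN' hN (isZero_cokernel_of_epi (𝟙 N))
      (CohBasics.Closure.isCoh_cokernel _ hN.1 hN)
  have h2 : α.comp β = AddMonoidHom.id _ := KSub.hom_ext fun A hA => by
    rw [AddMonoidHom.comp_apply, KSub.lift_cl _ _ hA, hα _ (pull_coh i hA), AddMonoidHom.id_apply]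
    haveI : IsIso ((η i).app A) := hA.2
    exact ((setup i).dataP.cls_congr (asIso ((η i).app A)) hA).symm
  refine ⟨(AddMonoidHom.toAddEquiv α β h1 h2).trans φ, fun F hF => ?_⟩
  exact (congrArg φ (hα F hF)).trans (hφ _ (push_P i hF))

end

end Groth.Agent.Lib.Cyc.Dev.SchemeEquiv
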