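import Groth.Agent.Lib.KRes.KSub
import Mathlib.Algebra.Homology.ShortComplex.SnakeLemma
import Mathlib.Algebra.Homology.ShortComplex.Abelian
import Mathlib.Algebra.Homology.ShortComplex.Limits
import Mathlib.CategoryTheory.Abelian.GrothendieckAxioms.Basic
import Mathlib.CategoryTheory.Limits.Shapes.Kernels

/-!
Dévissage in `K₀` without finiteness of filtrations: countable locally finite direct sums and
the swindle `[∐ D] = [F 0]`.
-/

set_option autoImplicit false
set_option linter.style.haveILetI false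

universe v u

open CategoryTheory Limits

namespace Groth.Agent.Lib.Cyc.Dev.Basic

variable {C : Type u} [Category.{v} C] [Abelian C]

noncomputable section

/-- A morphism of short exact sequences as a snake input. -/
def snake {S₁ S₂ : ShortComplex C} (h₁ : S₁.ShortExact) (h₂ : S₂.ShortExact) (v : S₁ ⟶ S₂) :
    ShortComplex.SnakeInput C where
  L₀ := ShortComplex.mk (kernel.map v.τ₁ v.τ₂ S₁.f S₂.f v.comm₁₂)
    (kernel.map v.τ₂ v.τ₃ S₁.g S₂.g v.comm₂₃)
    (by rw [← cancel_mono (kernel.ι v.τ₃)]; simp)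
  L₁ := S₁
  L₂ := S₂
  L₃ := ShortComplex.mk (cokernel.map v.τ₁ v.τ₂ S₁.f S₂.f v.comm₁₂)
    (cokernel.map v.τ₂ v.τ₃ S₁.g S₂.g v.comm₂₃)
    (by rw [← cancel_epi (cokernel.π v.τ₁)]; simp)
  v₀₁ := ShortComplex.homMk (kernel.ι _) (kernel.ι _) (kernel.ι _) (by simp) (by simp)
  v₁₂ := v
  v₂₃ := ShortComplex.homMk (cokernel.π _) (cokernel.π _) (cokernel.π _) (by simp) (by simp)
  w₀₂ := by ext <;> simp
  w₁₃ := by ext <;> simp
  h₀ := ShortComplex.isLimitOfIsLimitπ _
    ((KernelFork.isLimitMapConeEquiv _ ShortComplex.π₁).symm (kernelIsKernel v.τ₁))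
    ((KernelFork.isLimitMapConeEquiv _ ShortComplex.π₂).symm (kernelIsKernel v.τ₂))
    ((KernelFork.isLimitMapConeEquiv _ ShortComplex.π₃).symm (kernelIsKernel v.τ₃))
  h₃ := ShortComplex.isColimitOfIsColimitπ _
    ((CokernelCofork.isColimitMapCoconeEquiv _ ShortComplex.π₁).symm (cokernelIsCokernel v.τ₁))
    ((CokernelCofork.isColimitMapCoconeEquiv _ ShortComplex.π₂).symm (cokernelIsCokernel v.τ₂))
    ((CokernelCofork.isColimitMapCoconeEquiv _ ShortComplex.π₃).symm (cokernelIsCokernel v.τ₃))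
  L₁_exact := h₁.exact
  epi_L₁_g := h₁.epi_g
  L₂_exact := h₂.exact
  mono_L₂_f := h₂.mono_f

/-- Epimorphisms between short exact sequences have short exact kernels. -/
lemma shortExact_kernels {S₁ S₂ : ShortComplex C} (h₁ : S₁.ShortExact) (h₂ : S₂.ShortExact)
    (v : S₁ ⟶ S₂) [Epi v.τ₁] : (snake h₁ h₂ v).L₀.ShortExact := by
  haveI := h₁.mono_f
  refine ShortComplex.ShortExact.mk' (snake h₁ h₂ v).L₀_exact ?_ ?_
  · change Mono (kernel.map v.τ₁ v.τ₂ S₁.f S₂.f v.comm₁₂)
    exact mono_of_mono_fac (show _ ≫ kernel.ι v.τ₂ = kernel.ι v.τ₁ ≫ S₁.f by simp)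
  · have hz : IsZero (snake h₁ h₂ v).L₃.X₁ := isZero_cokernel_of_epi v.τ₁
    exact (snake h₁ h₂ v).L₁'_exact.epi_f (hz.eq_of_tgt _ _)

/-- Monomorphisms between short exact sequences have short exact cokernels. -/
lemma shortExact_cokernels {S₁ S₂ : ShortComplex C} (h₁ : S₁.ShortExact) (h₂ : S₂.ShortExact)
    (v : S₁ ⟶ S₂) [Mono v.τ₃] : (snake h₁ h₂ v).L₃.ShortExact := by
  haveI := h₂.epi_g
  refine ShortComplex.ShortExact.mk' (snake h₁ h₂ v).L₃_exact ?_ ?_
  · have hz : IsZero (snake h₁ h₂ v).L₀.X₃ := isZero_kernel_of_mono v.τ₃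
    exact (snake h₁ h₂ v).L₂'_exact.mono_g (hz.eq_of_src _ _)
  · change Epi (cokernel.map v.τ₂ v.τ₃ S₁.g S₂.g v.comm₂₃)
    exact epi_of_epi_fac (show cokernel.π v.τ₂ ≫ _ = S₂.g ≫ cokernel.π v.τ₃ by simp)

lemma shortExact_of_mono {A B : C} (f : A ⟶ B) [Mono f] :
    (ShortComplex.mk f (cokernel.π f) (cokernel.condition f)).ShortExact :=
  ShortComplex.ShortExact.mk' (ShortComplex.exact_cokernel f) inferInstance inferInstance

lemma shortExact_of_epi {A B : C} (f : A ⟶ B) [Epi f] :
    (ShortComplex.mk (kernel.ι f) f (kernel.condition f)).ShortExact :=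
  ShortComplex.ShortExact.mk' (ShortComplex.exact_kernel f) inferInstance inferInstance

/-! ### Countable sums -/

variable [HasColimitsOfShape (Discrete ℕ) C] [HasExactColimitsOfShape (Discrete ℕ) C]

instance mono_sigma_map {F G : ℕ → C} (f : ∀ n, F n ⟶ G n) [∀ n, Mono (f n)] :
    Mono (Limits.Sigma.map f) := by
  let ν : Discrete.functor F ⟶ Discrete.functor G := Discrete.natTrans fun n => f n.as
  haveI : ∀ X, Mono (ν.app X) := fun X => by
    dsimp [ν]
    infer_instance
  haveI := NatTrans.mono_of_mono_app ν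
  exact colim.map_mono ν

lemma shortExact_sigma (F : ℕ → ShortComplex C) (h : ∀ n, (F n).ShortExact) :
    (ShortComplex.mk (Limits.Sigma.map fun n => (F n).f) (Limits.Sigma.map fun n => (F n).g)
      (by ext n; simp)).ShortExact := by
  haveI : ∀ n, Mono (F n).f := fun n => (h n).mono_f
  haveI : ∀ n, Epi (F n).g := fun n => (h n).epi_g
  haveI he : Epi (Limits.Sigma.map fun n => (F n).g) := by
    constructor
    intro Z a b hab
    ext n
    rw [← cancel_epi (F n).g]
    simpa using congrArg (Sigma.ι (fun n => (F n).X₂) n ≫ ·) hab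
  refine ShortComplex.ShortExact.mk' (ShortComplex.exact_of_g_is_cokernel _
    (CokernelCofork.IsColimit.ofπ _ _
      (fun {Z} s hs => Sigma.desc fun n => (h n).exact.desc (Sigma.ι (fun n => (F n).X₂) n ≫ s) (by
        have := congrArg (Sigma.ι (fun n => (F n).X₁) n ≫ ·) hs
        simpa using this))
      (fun {Z} s hs => by
        ext n
        simp)
      (fun {Z} s hs m hm => by
        rw [← cancel_epi (Limits.Sigma.map fun n => (F n).g), hm]
        ext n
        simp))) inferInstance he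

/-- `0 → ∐ F (n+1) → ∐ F → F 0 → 0`. -/
abbrev succSC (F : ℕ → C) : ShortComplex C :=
  ShortComplex.mk (Sigma.desc fun n => Sigma.ι F (n + 1) : (∐ fun n => F (n + 1)) ⟶ ∐ F)
    (Sigma.desc fun n => match n with
      | 0 => 𝟙 (F 0)
      | _ + 1 => 0)
    (by ext n; simp)

lemma succSC_shortExact (F : ℕ → C) : (succSC F).ShortExact :=
  ShortComplex.Splitting.shortExact
    { r := Sigma.desc fun n => match n with
        | 0 => 0
        | m + 1 => Sigma.ι (fun n => F (n + 1)) m
      s := Sigma.ι F 0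
      f_r := by dsimp [succSC]; ext n; simp
      s_g := by simp [succSC]
      id := by
        dsimp [succSC]
        refine Limits.Sigma.hom_ext _ _ fun n => ?_
        simp only [Preadditive.comp_add, colimit.ι_desc_assoc, Cofan.mk_pt, Cofan.mk_ι_app, Category.comp_id]
        cases n <;> simp }

lemma isZero_sigma {F : ℕ → C} (h : ∀ n, IsZero (F n)) : IsZero (∐ F) := by
  rw [IsZero.iff_id_eq_zero]
  ext n
  exact (h n).eq_of_src _ _

end

end Groth.Agent.Lib.Cyc.Dev.Basic
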