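import Groth.Agent.Lib.Cyc.Dev.Swindle
import Mathlib.CategoryTheory.Abelian.Exact

/-!
Abstract dévissage: the subcategory of objects killed by a layer functor has the same `K₀`.
-/

set_option autoImplicit false
set_option linter.style.haveILetI false

universe v u

open CategoryTheory Limits

namespace Groth.Agent.Lib.Cyc.Dev.Main

open Groth.Agent.Lib.KRes Groth.Agent.Lib.Cyc.Dev.Basic Groth.Agent.Lib.Cyc.Dev.Swindle

variable {C : Type u} [Category.{v} C] [Abelian C] [HasColimitsOfShape (Discrete ℕ) C]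
  [HasExactColimitsOfShape (Discrete ℕ) C]

noncomputable section

/-- The first piece of a filtration. -/
def iterI {R : C ⥤ C} (η : 𝟭 C ⟶ R) (G : C) : ℕ → C
  | 0 => G
  | n + 1 => kernel (η.app (iterI η G n))

/-- Input of the dévissage theorem. -/
structure Setup (C : Type u) [Category.{v} C] [Abelian C]
    [HasColimitsOfShape (Discrete ℕ) C] where
  R : C ⥤ C
  η : 𝟭 C ⟶ R
  pres : PreservesFiniteColimits R
  presSigma : PreservesColimitsOfShape (Discrete ℕ) R
  epiη : ∀ G, Epi (η.app G)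
  idem : ∀ G, IsIso (η.app (R.obj G))
  Q : ObjectProperty C
  LF : (ℕ → C) → Prop
  isoQ : ∀ {A B : C}, (A ≅ B) → Q A → Q B
  kerQ : ∀ {A B : C} (f : A ⟶ B), Q A → Q B → Q (kernel f)
  cokQ : ∀ {A B : C} (f : A ⟶ B), Q A → Q B → Q (cokernel f)
  RQ : ∀ {A : C}, Q A → Q (R.obj A)
  sigmaQ : ∀ (F : ℕ → C), LF F → (∀ n, Q (F n)) → Q (∐ F)
  mono : ∀ {F G : ℕ → C} (f : ∀ n, F n ⟶ G n), (∀ n, Mono (f n)) → LF G → LF F
  epi : ∀ {F G : ℕ → C} (f : ∀ n, F n ⟶ G n), (∀ n, Epi (f n)) → LF F → LF G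
  succ : ∀ {F : ℕ → C}, LF F → LF (fun n => F (n + 1))
  pow : ∀ {F : ℕ → C}, LF F → ∀ (T : ∐ F ⟶ ∐ F),
    (∀ n m, n < m → Sigma.ι F n ≫ powT T m = 0) →
    ∀ (X : ℕ → C) (e : ∀ m, ∐ F ⟶ X m) (inc : ∀ m, X m ⟶ ∐ F),
      (∀ m, Epi (e m)) → (∀ m, Mono (inc m)) → (∀ m, e m ≫ inc m = powT T m) → LF X
  loc : ∀ {G : C}, Q G → LF (iterI η G)

attribute [instance] Setup.pres Setup.presSigma Setup.epiη Setup.idem

variable (S : Setup C)

namespace Setup

/-- The killed objects. -/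
def P : ObjectProperty C := fun A => S.Q A ∧ IsIso (S.η.app A)

lemma isIso_of_epi {A B : C} (f : A ⟶ B) [Epi f] (hA : IsIso (S.η.app A)) :
    IsIso (S.η.app B) := by
  haveI : Mono (S.η.app B) := by
    -- `B` is the cokernel of the kernel of `f`, which `R` preserves
    have hS := shortExact_of_epi f
    let t := CokernelCofork.mapIsColimit _ hS.gIsCokernel S.R
    have hk : S.R.map (kernel.ι f) ≫ inv (S.η.app A) ≫ f = 0 := by
      haveI := S.epiη (kernel f)
      rw [← cancel_epi (S.η.app (kernel f)), comp_zero]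
      have := S.η.naturality (kernel.ι f)
      rw [Functor.id_map] at this
      rw [← Category.assoc, ← this]
      simp
    obtain ⟨r, hr⟩ := CokernelCofork.IsColimit.desc' t (inv (S.η.app A) ≫ f) hk
    have hr' : S.R.map f ≫ r = inv (S.η.app A) ≫ f := hr
    have h1 : S.η.app B ≫ r = 𝟙 B := by
      have e : f ≫ S.η.app B = S.η.app A ≫ S.R.map f := S.η.naturality f
      rw [← cancel_epi f, ← Category.assoc, e, Category.assoc, hr']
      simp
    haveI : IsSplitMono (S.η.app B) := ⟨⟨⟨r, h1⟩⟩⟩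
    infer_instance
  exact isIso_of_mono_of_epi _

lemma isIso_of_mono {A B : C} (f : A ⟶ B) [Mono f] (hB : IsIso (S.η.app B)) :
    IsIso (S.η.app A) := by
  haveI : Mono (S.η.app A) := by
    have e : f ≫ S.η.app B = S.η.app A ≫ S.R.map f := S.η.naturality f
    haveI : Mono (S.η.app A ≫ S.R.map f) := e ▸ mono_comp f (S.η.app B)
    exact mono_of_mono _ (S.R.map f)
  exact isIso_of_mono_of_epi _

lemma sigmaP (F : ℕ → C) (hF : S.LF F) (hP : ∀ n, S.P (F n)) : S.P (∐ F) := by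
  refine ⟨S.sigmaQ F hF fun n => (hP n).1, ?_⟩
  haveI := fun n => (hP n).2
  have h : S.η.app (∐ F) = Limits.Sigma.map (fun n => S.η.app (F n)) ≫ sigmaComparison S.R F := by
    refine Limits.Sigma.hom_ext _ _ fun n => ?_
    exact (S.η.naturality (Sigma.ι F n)).trans (by simp)
  haveI : IsIso (Limits.Sigma.map fun n => S.η.app (F n)) :=
    ⟨Limits.Sigma.map fun n => inv (S.η.app (F n)), by ext n; simp, by ext n; simp⟩
  rw [h]
  infer_instance

/-- The dévissage data of the killed objects. -/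
def dataP : Data C where
  Q := S.Q
  P := S.P
  LF := S.LF
  le h := h.1
  isoQ := S.isoQ
  kerQ := S.kerQ
  cokQ := S.cokQ
  quotP f _ hA hB := ⟨hB, S.isIso_of_epi f hA.2⟩
  subP f _ hA hB := ⟨hA, S.isIso_of_mono f hB.2⟩
  sigmaQ := S.sigmaQ
  sigmaP := S.sigmaP
  mono := S.mono
  epi := S.epi
  succ := S.succ
  pow := S.pow

/-- The ambient data. -/
def dataQ : Data C where
  Q := S.Q
  P := S.Q
  LF := S.LF
  le h := h
  isoQ := S.isoQ
  kerQ := S.kerQ
  cokQ := S.cokQ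
  quotP _ _ _ hB := hB
  subP _ _ hA _ := hA
  sigmaQ := S.sigmaQ
  sigmaP := S.sigmaQ
  mono := S.mono
  epi := S.epi
  succ := S.succ
  pow := S.pow

/-- `I^(n+1) G → I^n G`. -/
def ι (G : C) (n : ℕ) : iterI S.η G (n + 1) ⟶ iterI S.η G n :=
  kernel.ι (S.η.app (iterI S.η G n))

instance (G : C) (n : ℕ) : Mono (S.ι G n) :=
  inferInstanceAs (Mono (kernel.ι (S.η.app (iterI S.η G n))))

/-- `I^n G → G`. -/
def toG (G : C) : ∀ n, iterI S.η G n ⟶ G
  | 0 => 𝟙 G
  | n + 1 => S.ι G n ≫ toG G n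

instance mono_toG (G : C) : ∀ n, Mono (S.toG G n)
  | 0 => inferInstanceAs (Mono (𝟙 G))
  | n + 1 => have := mono_toG G n; inferInstanceAs (Mono (S.ι G n ≫ S.toG G n))

/-- Functoriality of `I^n`. -/
def imap {A B : C} (f : A ⟶ B) : ∀ n, iterI S.η A n ⟶ iterI S.η B n
  | 0 => f
  | n + 1 => kernel.map _ _ (imap f n) (S.R.map (imap f n)) (S.η.naturality (imap f n)).symm

lemma imap_ι {A B : C} (f : A ⟶ B) (n : ℕ) : S.imap f (n + 1) ≫ S.ι B n = S.ι A n ≫ S.imap f n :=
  kernel.lift_ι _ _ _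

lemma imap_toG {A B : C} (f : A ⟶ B) : ∀ n, S.imap f n ≫ S.toG B n = S.toG A n ≫ f
  | 0 => (Category.comp_id f).trans (Category.id_comp f).symm
  | n + 1 => by
    change S.imap f (n + 1) ≫ S.ι B n ≫ S.toG B n = (S.ι A n ≫ S.toG A n) ≫ f
    rw [← Category.assoc, S.imap_ι f n, Category.assoc, imap_toG f n, Category.assoc]

lemma mono_imap {A B : C} (f : A ⟶ B) [Mono f] (n : ℕ) : Mono (S.imap f n) := by
  haveI : Mono (S.imap f n ≫ S.toG B n) := by rw [S.imap_toG]; infer_instance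
  exact mono_of_mono _ (S.toG B n)

lemma imap_comp_eq_zero {A B D : C} (f : A ⟶ B) (g : B ⟶ D) (w : f ≫ g = 0) (n : ℕ) :
    S.imap f n ≫ S.imap g n = 0 := by
  rw [← cancel_mono (S.toG D n), zero_comp, Category.assoc, S.imap_toG, ← Category.assoc,
    S.imap_toG, Category.assoc, w, comp_zero]

lemma epi_imap {B D : C} (g : B ⟶ D) [Epi g] : ∀ n, Epi (S.imap g n)
  | 0 => inferInstanceAs (Epi g)
  | n + 1 => by
    haveI := epi_imap g n
    let b := S.imap g n
    have hS := shortExact_of_epi b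
    let t := CokernelCofork.mapIsColimit _ hS.gIsCokernel S.R
    refine Abelian.epi_of_cokernel_π_eq_zero _ ?_
    let c := S.imap g (n + 1) ≫ S.ι D n
    -- the cokernel of `c` factors through `η`
    have h0 : S.ι B n ≫ b ≫ cokernel.π c = 0 := by
      rw [← Category.assoc, ← S.imap_ι g n]
      exact cokernel.condition c
    let r : S.R.obj (iterI S.η B n) ⟶ cokernel c :=
      (shortExact_of_epi (S.η.app (iterI S.η B n))).exact.desc (b ≫ cokernel.π c) h0
    have hr : S.η.app (iterI S.η B n) ≫ r = b ≫ cokernel.π c :=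
      (shortExact_of_epi (S.η.app (iterI S.η B n))).exact.g_desc _ h0
    have hk : S.R.map (kernel.ι b) ≫ r = 0 := by
      rw [← cancel_epi (S.η.app (kernel b)), comp_zero, ← Category.assoc]
      have e : kernel.ι b ≫ S.η.app (iterI S.η B n) = S.η.app (kernel b) ≫ S.R.map (kernel.ι b) :=
        S.η.naturality (kernel.ι b)
      rw [← e, Category.assoc, hr, kernel.condition_assoc, zero_comp]
    obtain ⟨s, hs⟩ := CokernelCofork.IsColimit.desc' t r hk
    have hs' : S.R.map b ≫ s = r := hs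
    have hπ : cokernel.π c = S.η.app (iterI S.η D n) ≫ s := by
      have e : b ≫ S.η.app (iterI S.η D n) = S.η.app (iterI S.η B n) ≫ S.R.map b := S.η.naturality b
      rw [← cancel_epi b, ← hr, ← hs', ← Category.assoc (S.η.app _), ← e, Category.assoc]
    have hι : S.ι D n ≫ cokernel.π c = 0 := by
      rw [hπ, ← Category.assoc, ι]
      exact (congrArg (· ≫ s) (kernel.condition _)).trans zero_comp
    let l : iterI S.η D (n + 1) ⟶ Abelian.image c := kernel.lift _ (S.ι D n) hι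
    have hl : l ≫ Abelian.image.ι c = S.ι D n := kernel.lift_ι _ _ _
    have hf : Abelian.factorThruImage c = S.imap g (n + 1) ≫ l := by
      rw [← cancel_mono (Abelian.image.ι c), Abelian.image.fac, Category.assoc, hl]
    haveI : Mono l := mono_of_mono_fac hl
    haveI : Epi l := by
      haveI : Epi (S.imap g (n + 1) ≫ l) := hf ▸ inferInstance
      exact epi_of_epi (S.imap g (n + 1)) l
    haveI : IsIso l := isIso_of_mono_of_epi l
    have he : S.imap g (n + 1) = Abelian.factorThruImage c ≫ inv l := by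
      rw [hf, Category.assoc, IsIso.hom_inv_id, Category.comp_id]
    haveI : Epi (S.imap g (n + 1)) := by rw [he]; exact epi_comp _ _
    exact cokernel.π_of_epi _

/-- The graded pieces. -/
abbrev gr (G : C) (n : ℕ) : C := cokernel (S.ι G n)

lemma iterI_Q {G : C} (hG : S.Q G) : ∀ n, S.Q (iterI S.η G n)
  | 0 => hG
  | n + 1 => S.kerQ _ (iterI_Q hG n) (S.RQ (iterI_Q hG n))

/-- The layer is `R` of the piece. -/
def grIso (G : C) (n : ℕ) : S.gr G n ≅ S.R.obj (iterI S.η G n) :=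
  (cokernelIsCokernel _).coconePointUniqueUpToIso
    (shortExact_of_epi (S.η.app (iterI S.η G n))).gIsCokernel

lemma gr_P {G : C} (hG : S.Q G) (n : ℕ) : S.P (S.gr G n) :=
  S.dataP.P_of_iso (S.grIso G n).symm ⟨S.RQ (S.iterI_Q hG n), S.idem _⟩

lemma gr_LF {G : C} (hG : S.Q G) : S.LF (S.gr G) :=
  S.epi (fun n => cokernel.π (S.ι G n)) (fun n => inferInstance) (S.loc hG)

/-- The total graded object. -/
abbrev Gr (G : C) : C := ∐ S.gr G

lemma Gr_P {G : C} (hG : S.Q G) : S.P (S.Gr G) := S.sigmaP _ (S.gr_LF hG) (S.gr_P hG)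

/-- Additivity of the graded class. -/
theorem clSub_Gr_add {T : ShortComplex C} (hT : T.ShortExact) (h₁ : S.Q T.X₁) (h₂ : S.Q T.X₂)
    (h₃ : S.Q T.X₃) :
    KZero.clSub S.P (S.Gr T.X₂) = KZero.clSub S.P (S.Gr T.X₁) + KZero.clSub S.P (S.Gr T.X₃) := by
  haveI := hT.mono_f
  haveI := hT.epi_g
  let D := S.dataP
  haveI : ∀ n, Epi (S.imap T.g n) := S.epi_imap T.g
  -- the induced filtration on `A := T.X₁`
  let A' : ℕ → C := fun n => kernel (S.imap T.g n)
  let row : ℕ → ShortComplex C := fun n =>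
    ShortComplex.mk (kernel.ι (S.imap T.g n)) (S.imap T.g n) (kernel.condition _)
  have hrow : ∀ n, (row n).ShortExact := fun n => shortExact_of_epi _
  let ι' : ∀ n, A' (n + 1) ⟶ A' n := fun n => kernel.map _ _ (S.ι T.X₂ n) (S.ι T.X₃ n) (S.imap_ι T.g n)
  have hι' : ∀ n, ι' n ≫ kernel.ι _ = kernel.ι _ ≫ S.ι T.X₂ n := fun n => kernel.lift_ι _ _ _
  haveI : ∀ n, Mono (ι' n) := fun n => mono_of_mono_fac (hι' n)
  let v : ∀ n, row (n + 1) ⟶ row n := fun n =>
    ShortComplex.homMk (ι' n) (S.ι T.X₂ n) (S.ι T.X₃ n) (hι' n) (S.imap_ι T.g n).symm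
  haveI : ∀ n, Mono (v n).τ₃ := fun n => inferInstanceAs (Mono (S.ι T.X₃ n))
  let L : ℕ → ShortComplex C := fun n => (snake (hrow (n + 1)) (hrow n) (v n)).L₃
  have hL : ∀ n, (L n).ShortExact := fun n => shortExact_cokernels (hrow (n + 1)) (hrow n) (v n)
  let g' : ℕ → C := fun n => cokernel (ι' n)
  have hA'Q : ∀ n, S.Q (A' n) := fun n => S.kerQ _ (S.iterI_Q h₂ n) (S.iterI_Q h₃ n)
  have hA'lf : S.LF A' := S.mono (fun n => kernel.ι (S.imap T.g n)) (fun n => inferInstance) (S.loc h₂)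
  have hg'P : ∀ n, S.P (g' n) := fun n =>
    @Data.subP _ _ _ _ D _ _ (L n).f (hL n).mono_f (S.cokQ _ (hA'Q _) (hA'Q _)) (S.gr_P h₂ n)
  have hg'lf : S.LF g' := S.epi (fun n => cokernel.π (ι' n)) (fun n => inferInstance) hA'lf
  have key1 : D.cls (S.Gr T.X₂) = D.cls (∐ g') + D.cls (S.Gr T.X₃) :=
    D.cls_rel (shortExact_sigma L hL) (S.sigmaP _ hg'lf hg'P) (S.Gr_P h₂) (S.Gr_P h₃)
  -- comparison with the filtration of `A`
  let u : ∀ n, iterI S.η T.X₁ n ⟶ A' n := fun n =>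
    kernel.lift _ (S.imap T.f n) (S.imap_comp_eq_zero T.f T.g T.zero n)
  have hu : ∀ n, u n ≫ kernel.ι _ = S.imap T.f n := fun n => kernel.lift_ι _ _ _
  haveI : ∀ n, Mono (u n) := fun n => by
    haveI := S.mono_imap T.f n
    exact mono_of_mono_fac (hu n)
  haveI hu0 : IsIso (u 0) := by
    refine ⟨hT.exact.lift (kernel.ι (S.imap T.g 0)) (kernel.condition _), ?_, ?_⟩
    · refine (cancel_mono T.f).1 ?_
      exact (Category.assoc _ _ _).trans ((congrArg (u 0 ≫ ·) (hT.exact.lift_f _ _)).trans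
        ((hu 0).trans (Category.id_comp _).symm))
    · refine (cancel_mono (kernel.ι _)).1 ?_
      exact (Category.assoc _ _ _).trans ((congrArg (_ ≫ ·) (hu 0)).trans
        ((hT.exact.lift_f _ _).trans (Category.id_comp _).symm))
  have hιu : ∀ n, S.ι T.X₁ n ≫ u n = u (n + 1) ≫ ι' n := fun n => by
    rw [← cancel_mono (kernel.ι (S.imap T.g n)), Category.assoc, Category.assoc, hu, hι',
      ← Category.assoc (u (n + 1)), hu]
    exact (S.imap_ι T.f n).symm
  let row' : ℕ → ShortComplex C := fun n =>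
    ShortComplex.mk (u n) (cokernel.π (u n)) (cokernel.condition _)
  have hrow' : ∀ n, (row' n).ShortExact := fun n => shortExact_of_mono _
  let N : ℕ → C := fun n => cokernel (u n)
  let t : ∀ n, N (n + 1) ⟶ N n := fun n =>
    cokernel.map (u (n + 1)) (u n) (S.ι T.X₁ n) (ι' n) (hιu n).symm
  let v' : ∀ n, row' (n + 1) ⟶ row' n := fun n =>
    ShortComplex.homMk (S.ι T.X₁ n) (ι' n) (t n) (hιu n) (by simp [row', t])
  let Sn : ∀ n, ShortComplex.SnakeInput C := fun n => snake (hrow' (n + 1)) (hrow' n) (v' n)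
  haveI hδm : ∀ n, Mono (Sn n).δ := fun n => (Sn n).mono_δ (isZero_kernel_of_mono (ι' n))
  have hNQ : ∀ n, S.Q (N n) := fun n => S.cokQ _ (S.iterI_Q h₁ n) (hA'Q n)
  have hkP : ∀ n, S.P (kernel (t n)) := fun n =>
    @Data.subP _ _ _ _ D _ _ (Sn n).δ (hδm n) (S.kerQ _ (hNQ _) (hNQ _)) (S.gr_P h₁ n)
  have hepi : ∀ n, Epi (Sn n).L₃.g := fun n => by
    exact @epi_of_epi_fac _ _ _ _ _ _ _ _ (epi_comp (cokernel.π (u n)) (cokernel.π (t n)))
      (show cokernel.π (ι' n) ≫ (Sn n).L₃.g = cokernel.π (u n) ≫ cokernel.π (t n) from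
        cokernel.π_desc _ _ _)
  have hcP : ∀ n, S.P (cokernel (t n)) := fun n => by
    exact @Data.quotP _ _ _ _ D _ _ (Sn n).L₃.g (hepi n) (hg'P n) (S.cokQ _ (hNQ _) (hNQ _))
  let J : ℕ → C := fun n => cokernel (Sn n).δ
  let j : ∀ n, J n ⟶ g' n := fun n => cokernel.desc _ (Sn n).L₃.f (Sn n).δ_L₃_f
  have hJP : ∀ n, S.P (J n) := fun n => D.cokP _ (hkP n).1 (S.gr_P h₁ n)
  let T2 : ℕ → ShortComplex C := fun n => ShortComplex.mk (j n) (Sn n).L₃.g (by
    rw [← cancel_epi (cokernel.π (Sn n).δ), comp_zero]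
    exact (cokernel.π_desc_assoc _ _ _ _).trans (Sn n).L₃.zero)
  have hT2 : ∀ n, (T2 n).ShortExact := fun n => by
    haveI : Mono (j n) := (Sn n).L₂'_exact.mono_cokernelDesc
    haveI := hepi n
    let α : (Sn n).L₃ ⟶ T2 n :=
      ShortComplex.homMk (cokernel.π _) (𝟙 _) (𝟙 _) ((cokernel.π_desc _ _ _).trans (Category.comp_id _).symm)
        ((Category.id_comp _).trans (Category.comp_id _).symm)
    haveI : Epi α.τ₁ := inferInstanceAs (Epi (cokernel.π _))
    haveI : IsIso α.τ₂ := inferInstanceAs (IsIso (𝟙 _))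
    haveI : Mono α.τ₃ := inferInstanceAs (Mono (𝟙 _))
    exact ShortComplex.ShortExact.mk'
      ((ShortComplex.exact_iff_of_epi_of_isIso_of_mono α).1 (Sn n).L₃_exact) ‹_› ‹_›
  have hgrA := S.gr_LF h₁
  have hklf : S.LF (fun n => kernel (t n)) := S.mono (fun n => (Sn n).δ) hδm hgrA
  have hNlf : S.LF N := S.epi (fun n => cokernel.π (u n)) (fun n => inferInstance) hA'lf
  have hclf : S.LF (fun n => cokernel (t n)) := S.epi (fun n => (Sn n).L₃.g)
    (fun n => (hT2 n).epi_g) hg'lf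
  have hJlf : S.LF J := S.epi (fun n => cokernel.π (Sn n).δ) (fun n => inferInstance) hgrA
  have key2 : D.cls (S.Gr T.X₁) = D.cls (∐ fun n => kernel (t n)) + D.cls (∐ J) :=
    D.cls_rel (shortExact_sigma (fun n => ShortComplex.mk (Sn n).δ (cokernel.π (Sn n).δ)
      (cokernel.condition _)) (fun n => shortExact_of_mono (Sn n).δ))
      (S.sigmaP _ hklf hkP) (S.Gr_P h₁) (S.sigmaP _ hJlf hJP)
  have key3 : D.cls (∐ g') = D.cls (∐ J) + D.cls (∐ fun n => cokernel (t n)) :=
    D.cls_rel (shortExact_sigma T2 hT2)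
      (S.sigmaP _ hJlf hJP) (S.sigmaP _ hg'lf hg'P) (S.sigmaP _ hclf hcP)
  -- the endomorphism
  have hN0 : IsZero (N 0) := isZero_cokernel_of_epi (u 0)
  have hN := succSC_shortExact N
  haveI : Mono (succSC N).f := hN.mono_f
  haveI : Epi (succSC N).f := hN.exact.epi_f (hN0.eq_of_tgt _ _)
  haveI : IsIso (succSC N).f := isIso_of_mono_of_epi _
  let st : (∐ fun n => N (n + 1)) ⟶ ∐ N := Limits.Sigma.map t
  let Tt : ∐ N ⟶ ∐ N := inv (succSC N).f ≫ st
  have hT0 : Sigma.ι N 0 ≫ Tt = 0 := hN0.eq_of_src _ _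
  have hTs : ∀ n, Sigma.ι N (n + 1) ≫ Tt = t n ≫ Sigma.ι N n := fun n => by
    have e : Sigma.ι (fun n => N (n + 1)) n ≫ (succSC N).f = Sigma.ι N (n + 1) := by simp
    rw [← e, Category.assoc]
    simp only [Tt, st, IsIso.hom_inv_id_assoc, Limits.Sigma.ι_map]
  have hpow : ∀ n m, n < m → Sigma.ι N n ≫ powT Tt m = 0 := by
    intro n m
    induction m generalizing n with
    | zero => omega
    | succ m ih =>
      intro h
      cases n with
      | zero => rw [powT, ← Category.assoc, hT0, zero_comp]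
      | succ n => rw [powT, ← Category.assoc, hTs, Category.assoc, ih n (by omega), comp_zero]
  let p : ∀ n, N (n + 1) ⟶ Abelian.image (t n) := fun n => Abelian.factorThruImage (t n)
  let m : ∀ n, Abelian.image (t n) ⟶ N n := fun n => Abelian.image.ι (t n)
  haveI : ∀ n, Mono (m n) := fun n => inferInstanceAs (Mono (Abelian.image.ι (t n)))
  haveI : ∀ n, Epi (p n) := fun n => inferInstanceAs (Epi (Abelian.factorThruImage (t n)))
  have hst : st = Limits.Sigma.map p ≫ Limits.Sigma.map m := by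
    ext n
    simp [st, p, m]
  have hK := shortExact_sigma (fun n => ShortComplex.mk (kernel.ι (t n)) (p n)
    (by rw [← cancel_mono (m n), Category.assoc, Abelian.image.fac, kernel.condition, zero_comp]))
    (fun n => by
      refine ShortComplex.ShortExact.mk' (ShortComplex.exact_of_f_is_kernel _ ?_) inferInstance inferInstance
      exact isKernelOfComp (m n) (t n) (kernelIsKernel (t n)) _ (Abelian.image.fac _))
  have hC := shortExact_sigma (fun n => ShortComplex.mk (m n) (cokernel.π (t n)) (kernel.condition _))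
    (fun n => shortExact_of_epi (cokernel.π (t n)))
  haveI : Epi (Limits.Sigma.map p) := hK.epi_g
  haveI : Mono (Limits.Sigma.map m) := hC.mono_f
  let ek : kernel Tt ≅ ∐ fun n => kernel (t n) :=
    kernelIsIsoComp (inv (succSC N).f) st ≪≫ kernelIsoOfEq hst ≪≫
      kernelCompMono (Limits.Sigma.map p) (Limits.Sigma.map m) ≪≫
        (kernelIsKernel _).conePointUniqueUpToIso hK.fIsKernel
  let ec : cokernel Tt ≅ ∐ fun n => cokernel (t n) :=
    cokernelEpiComp (inv (succSC N).f) st ≪≫ cokernelIsoOfEq hst ≪≫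
      cokernelEpiComp (Limits.Sigma.map p) (Limits.Sigma.map m) ≪≫
        (cokernelIsCokernel _).coconePointUniqueUpToIso hC.gIsCokernel
  have hkT : S.P (kernel Tt) := D.P_of_iso ek.symm (S.sigmaP _ hklf hkP)
  have hcT : S.P (cokernel Tt) := D.P_of_iso ec.symm (S.sigmaP _ hclf hcP)
  have key4 := cls_kernel_eq_cokernel D hNlf hNQ Tt hpow hkT hcT
  rw [D.cls_congr ek hkT, D.cls_congr ec hcT] at key4
  change D.cls (S.Gr T.X₂) = D.cls (S.Gr T.X₁) + D.cls (S.Gr T.X₃)
  rw [key1, key2, key3, key4]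
  abel

/-- The abstract dévissage isomorphism. -/
theorem exists_equiv : ∃ φ : KZero.K0sub S.P ≃+ KZero.K0sub S.Q,
    ∀ A, S.P A → φ (KZero.clSub S.P A) = KZero.clSub S.Q A := by
  let φ : KZero.K0sub S.P →+ KZero.K0sub S.Q :=
    KSub.lift (fun A => KZero.clSub S.Q A) fun T hT h₁ h₂ h₃ => KSub.rel hT h₁.1 h₂.1 h₃.1
  have hφ : ∀ A, S.P A → φ (KZero.clSub S.P A) = KZero.clSub S.Q A := fun A hA => KSub.lift_cl _ _ hA
  let ψ : KZero.K0sub S.Q →+ KZero.K0sub S.P :=
    KSub.lift (fun A => KZero.clSub S.P (S.Gr A)) fun T hT h₁ h₂ h₃ => S.clSub_Gr_add hT h₁ h₂ h₃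
  have h1 : φ.comp ψ = AddMonoidHom.id _ := KSub.hom_ext fun A hA => by
    rw [AddMonoidHom.comp_apply, KSub.lift_cl _ _ hA, hφ _ (S.Gr_P hA), AddMonoidHom.id_apply]
    exact S.dataQ.cls_swindle_mono (iterI S.η A) (S.loc hA) (S.iterI_Q hA) (S.ι A) (S.gr A)
      (fun n => cokernel.π (S.ι A n)) (fun n => cokernel.condition _)
      (fun n => shortExact_of_mono (S.ι A n)) (fun n => (S.gr_P hA n).1)
  have h2 : ψ.comp φ = AddMonoidHom.id _ := KSub.hom_ext fun A hA => by
    rw [AddMonoidHom.comp_apply, hφ A hA, KSub.lift_cl _ _ hA.1, AddMonoidHom.id_apply]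
    haveI := hA.2
    have hz : ∀ n, IsZero (iterI S.η A (n + 1)) := fun n => by
      induction n with
      | zero => exact isZero_kernel_of_mono (S.η.app A)
      | succ n ih => exact ih.of_mono (S.ι A (n + 1))
    have hzg : ∀ n, IsZero (S.gr A (n + 1)) := fun n => (hz n).of_epi (cokernel.π _)
    have e : S.gr A 0 ≅ A := S.grIso A 0 ≪≫ (asIso (S.η.app A)).symm
    have hP' := S.sigmaP _ (S.succ (S.gr_LF hA.1)) fun n => S.gr_P hA.1 (n + 1)
    have := S.dataP.cls_sigma_succ (S.gr A) (S.gr_LF hA.1) (S.gr_P hA.1)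
    rw [S.dataP.cls_zero hP' (isZero_sigma hzg), zero_add, S.dataP.cls_congr e (S.gr_P hA.1 0)] at this
    exact this
  exact ⟨AddMonoidHom.toAddEquiv φ ψ h2 h1, hφ⟩

end Setup

end

end Groth.Agent.Lib.Cyc.Dev.Main
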