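import Groth.Agent.Lib.Cyc.Dev.Basic

/-!
The dévissage swindle: for an endomorphism with locally vanishing powers, `[ker] = [coker]`.
-/

set_option autoImplicit false
set_option linter.style.haveILetI false

universe v u

open CategoryTheory Limits

namespace Groth.Agent.Lib.Cyc.Dev.Swindle

open Groth.Agent.Lib.KRes Groth.Agent.Lib.Cyc.Dev.Basic

variable {C : Type u} [Category.{v} C] [Abelian C] [HasColimitsOfShape (Discrete ℕ) C]
  [HasExactColimitsOfShape (Discrete ℕ) C]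

noncomputable section

/-- Powers of an endomorphism. -/
def powT {Q : C} (T : Q ⟶ Q) : ℕ → (Q ⟶ Q)
  | 0 => 𝟙 Q
  | n + 1 => T ≫ powT T n

lemma powT_comm {Q : C} (T : Q ⟶ Q) : ∀ n, powT T n ≫ T = T ≫ powT T n
  | 0 => by simp [powT]
  | n + 1 => by simp [powT, powT_comm T n]

/-- Ambient property `Q`, the subproperty `P`, and locally finite families `LF`. -/
structure Data (C : Type u) [Category.{v} C] [Abelian C]
    [HasColimitsOfShape (Discrete ℕ) C] where
  Q : ObjectProperty C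
  P : ObjectProperty C
  LF : (ℕ → C) → Prop
  le : ∀ {A : C}, P A → Q A
  isoQ : ∀ {A B : C}, (A ≅ B) → Q A → Q B
  kerQ : ∀ {A B : C} (f : A ⟶ B), Q A → Q B → Q (kernel f)
  cokQ : ∀ {A B : C} (f : A ⟶ B), Q A → Q B → Q (cokernel f)
  quotP : ∀ {A B : C} (f : A ⟶ B) [Epi f], P A → Q B → P B
  subP : ∀ {A B : C} (f : A ⟶ B) [Mono f], Q A → P B → P A
  sigmaQ : ∀ (F : ℕ → C), LF F → (∀ n, Q (F n)) → Q (∐ F)
  sigmaP : ∀ (F : ℕ → C), LF F → (∀ n, P (F n)) → P (∐ F)
  mono : ∀ {F G : ℕ → C} (f : ∀ n, F n ⟶ G n), (∀ n, Mono (f n)) → LF G → LF F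
  epi : ∀ {F G : ℕ → C} (f : ∀ n, F n ⟶ G n), (∀ n, Epi (f n)) → LF F → LF G
  succ : ∀ {F : ℕ → C}, LF F → LF (fun n => F (n + 1))
  pow : ∀ {F : ℕ → C}, LF F → ∀ (T : ∐ F ⟶ ∐ F),
    (∀ n m, n < m → Sigma.ι F n ≫ powT T m = 0) →
    ∀ (X : ℕ → C) (e : ∀ m, ∐ F ⟶ X m) (inc : ∀ m, X m ⟶ ∐ F),
      (∀ m, Epi (e m)) → (∀ m, Mono (inc m)) → (∀ m, e m ≫ inc m = powT T m) → LF X

variable (D : Data C)

namespace Data

/-- The class in `K₀(P)`. -/
abbrev cls (A : C) : KZero.K0sub D.P := KZero.clSub D.P A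

lemma kerP {A B : C} (f : A ⟶ B) (hA : D.P A) (hB : D.Q B) : D.P (kernel f) :=
  D.subP (kernel.ι f) (D.kerQ f (D.le hA) hB) hA

lemma cokP {A B : C} (f : A ⟶ B) (hA : D.Q A) (hB : D.P B) : D.P (cokernel f) :=
  D.quotP (cokernel.π f) hB (D.cokQ f hA (D.le hB))

lemma P_of_iso {A B : C} (e : A ≅ B) (hA : D.P A) : D.P B :=
  D.quotP e.hom hA (D.isoQ e (D.le hA))

lemma cls_rel {S : ShortComplex C} (hS : S.ShortExact) (h₁ : D.P S.X₁) (h₂ : D.P S.X₂)
    (h₃ : D.P S.X₃) : D.cls S.X₂ = D.cls S.X₁ + D.cls S.X₃ :=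
  KSub.rel hS h₁ h₂ h₃

end Data

section

variable {P : ObjectProperty C}

lemma clSub_congr {A B : C} (e : A ≅ B) (hA : P A) (hB : P B) {Z : C} (hZ : IsZero Z) (hZP : P Z) :
    KZero.clSub P A = KZero.clSub P B := by
  have h := KSub.rel (KSub.shortExact_iso e hZ) hA hB hZP
  dsimp at h
  rw [KSub.clSub_zero hZ hZP, add_zero] at h
  exact h.symm

end

namespace Data

lemma Q_zero {A : C} (hA : D.Q A) {Z : C} (hZ : IsZero Z) : D.Q Z :=
  D.isoQ ((isZero_cokernel_of_epi (𝟙 A)).iso hZ) (D.cokQ _ hA hA)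

lemma P_zero {A : C} (hA : D.P A) {Z : C} (hZ : IsZero Z) : D.P Z :=
  D.P_of_iso ((isZero_cokernel_of_epi (𝟙 A)).iso hZ) (D.cokP _ (D.le hA) hA)

lemma cls_congr {A B : C} (e : A ≅ B) (hA : D.P A) : D.cls A = D.cls B :=
  clSub_congr e hA (D.P_of_iso e hA) (isZero_cokernel_of_epi (𝟙 A)) (D.cokP _ (D.le hA) hA)

lemma cls_zero {A : C} (hA : D.P A) (hz : IsZero A) : D.cls A = 0 := KSub.clSub_zero hz hA

lemma cls_sigma_succ (F : ℕ → C) (hF : D.LF F) (hP : ∀ n, D.P (F n)) :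
    D.cls (∐ F) = D.cls (∐ fun n => F (n + 1)) + D.cls (F 0) :=
  D.cls_rel (succSC_shortExact F) (D.sigmaP _ (D.succ hF) fun n => hP (n + 1)) (D.sigmaP _ hF hP) (hP 0)

/-- A family with monomorphisms `F (n+1) → F n`: the cokernels sum to `[F 0]`. -/
lemma cls_swindle_mono (F : ℕ → C) (hF : D.LF F) (hP : ∀ n, D.P (F n))
    (j : ∀ n, F (n + 1) ⟶ F n) [∀ n, Mono (j n)] (G : ℕ → C) (g : ∀ n, F n ⟶ G n)
    (w : ∀ n, j n ≫ g n = 0) (hG : ∀ n, (ShortComplex.mk (j n) (g n) (w n)).ShortExact)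
    (hGP : ∀ n, D.P (G n)) : D.cls (∐ G) = D.cls (F 0) := by
  have hGlf : D.LF G := D.epi g (fun n => (hG n).epi_g) hF
  have h1 := D.cls_rel (shortExact_sigma (fun n => ShortComplex.mk (j n) (g n) (w n)) hG)
    (D.sigmaP _ (D.succ hF) fun n => hP (n + 1)) (D.sigmaP _ hF hP) (D.sigmaP _ hGlf hGP)
  have h2 := D.cls_sigma_succ F hF hP
  dsimp [cls] at h1 h2 ⊢
  rw [h1] at h2
  exact add_left_cancel h2

/-- A family with epimorphisms `F n → F (n+1)`: the kernels sum to `[F 0]`. -/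
lemma cls_swindle_epi (F : ℕ → C) (hF : D.LF F) (hP : ∀ n, D.P (F n))
    (G : ℕ → C) (g : ∀ n, G n ⟶ F n) (d : ∀ n, F n ⟶ F (n + 1)) (w : ∀ n, g n ≫ d n = 0)
    (hG : ∀ n, (ShortComplex.mk (g n) (d n) (w n)).ShortExact)
    (hGP : ∀ n, D.P (G n)) : D.cls (∐ G) = D.cls (F 0) := by
  have hGlf : D.LF G := D.mono g (fun n => (hG n).mono_f) hF
  have h1 := D.cls_rel (shortExact_sigma (fun n => ShortComplex.mk (g n) (d n) (w n)) hG)
    (D.sigmaP _ hGlf hGP) (D.sigmaP _ hF hP) (D.sigmaP _ (D.succ hF) fun n => hP (n + 1))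
  have h2 := D.cls_sigma_succ F hF hP
  dsimp [cls] at h1 h2 ⊢
  rw [h1, add_comm] at h2
  exact add_left_cancel h2

end Data

/-- A stage of the image filtration of an endomorphism. -/
structure St {Q : C} (T : Q ⟶ Q) where
  X : C
  t : X ⟶ X
  e : Q ⟶ X
  inc : X ⟶ Q
  he : Epi e
  hinc : Mono inc
  w : t ≫ inc = inc ≫ T

attribute [instance] St.he St.hinc

/-- The next stage: the image of the restriction. -/
def St.next {Q : C} {T : Q ⟶ Q} (s : St T) : St T where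
  X := Abelian.image s.t
  t := Abelian.image.ι s.t ≫ Abelian.factorThruImage s.t
  e := s.e ≫ Abelian.factorThruImage s.t
  inc := Abelian.image.ι s.t ≫ s.inc
  he := epi_comp _ _
  hinc := mono_comp _ _
  w := by
    rw [Category.assoc, Category.assoc, ← s.w]
    exact congrArg (Abelian.image.ι s.t ≫ ·) ((Category.assoc _ _ _).symm.trans (congrArg (· ≫ s.inc) (Abelian.image.fac s.t)))

/-- The image filtration. -/
def stage {Q : C} (T : Q ⟶ Q) : ℕ → St T
  | 0 => ⟨Q, T, 𝟙 Q, 𝟙 Q, inferInstance, inferInstance, by simp⟩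
  | n + 1 => (stage T n).next

lemma stage_comp {Q : C} (T : Q ⟶ Q) : ∀ n, (stage T n).e ≫ (stage T n).inc = powT T n
  | 0 => by simp [stage, powT]
  | n + 1 => by
    change ((stage T n).e ≫ Abelian.factorThruImage _) ≫ Abelian.image.ι _ ≫ (stage T n).inc = _
    rw [Category.assoc, ← Category.assoc (Abelian.factorThruImage _), Abelian.image.fac, (stage T n).w,
      ← Category.assoc, stage_comp T n, powT_comm]
    rfl

/-- An endomorphism of a locally finite sum with locally vanishing powers has `[ker] = [coker]`. -/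
theorem cls_kernel_eq_cokernel {F : ℕ → C} (hF : D.LF F) (hQF : ∀ n, D.Q (F n)) (T : ∐ F ⟶ ∐ F)
    (hT : ∀ n m, n < m → Sigma.ι F n ≫ powT T m = 0)
    (hk : D.P (kernel T)) (hc : D.P (cokernel T)) :
    D.cls (kernel T) = D.cls (cokernel T) := by
  let X : ℕ → C := fun n => (stage T n).X
  let ι : ∀ n, X (n + 1) ⟶ X n := fun n => Abelian.image.ι (stage T n).t
  let p : ∀ n, X n ⟶ X (n + 1) := fun n => Abelian.factorThruImage (stage T n).t
  have hpι : ∀ n, p n ≫ ι n = (stage T n).t := fun n => Abelian.image.fac _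
  have hιp : ∀ n, ι n ≫ p n = p (n + 1) ≫ ι (n + 1) := fun n => (hpι (n + 1)).symm
  haveI : ∀ n, Mono (ι n) := fun n => inferInstanceAs (Mono (Abelian.image.ι (stage T n).t))
  haveI : ∀ n, Epi (p n) := fun n => inferInstanceAs (Epi (Abelian.factorThruImage _))
  have hXlf : D.LF X := D.pow hF T hT X (fun n => (stage T n).e) (fun n => (stage T n).inc)
    (fun n => (stage T n).he) (fun n => (stage T n).hinc) (stage_comp T)
  have hXQ : ∀ n, D.Q (X n) := fun n => by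
    induction n with
    | zero => exact D.sigmaQ _ hF hQF
    | succ n ih => exact D.kerQ _ ih (D.cokQ _ ih ih)
  let S : ℕ → ShortComplex C := fun n => ShortComplex.mk (ι n) (cokernel.π (ι n)) (cokernel.condition _)
  have hS : ∀ n, (S n).ShortExact := fun n => shortExact_of_mono (ι n)
  let d : ∀ n, cokernel (ι n) ⟶ cokernel (ι (n + 1)) := fun n =>
    cokernel.map (ι n) (ι (n + 1)) (p (n + 1)) (p n) (hιp n)
  let v : ∀ n, S n ⟶ S (n + 1) := fun n =>
    ShortComplex.homMk (p (n + 1)) (p n) (d n) (hιp n).symm (by simp [S, d])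
  haveI : ∀ n, Epi (v n).τ₁ := fun n => inferInstanceAs (Epi (p (n + 1)))
  haveI hd : ∀ n, Epi (d n) := fun n => by
    haveI := epi_comp (p n) (cokernel.π (ι (n + 1)))
    exact epi_of_epi_fac (show cokernel.π (ι n) ≫ d n = p n ≫ cokernel.π (ι (n + 1)) by simp [d])
  let L : ℕ → ShortComplex C := fun n => (snake (hS n) (hS (n + 1)) (v n)).L₀
  have hL : ∀ n, (L n).ShortExact := fun n => shortExact_kernels (hS n) (hS (n + 1)) (v n)
  haveI hLm : ∀ n, Mono (L n).f := fun n => (hL n).mono_f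
  haveI : ∀ n, Epi (L n).g := fun n => (hL n).epi_g
  -- the cokernels
  let e0 : cokernel (ι 0) ≅ cokernel T :=
    (cokernelEpiComp (p 0) (ι 0)).symm ≪≫ cokernelIsoOfEq (hpι 0)
  have hCP : ∀ n, D.P (cokernel (ι n)) := fun n => by
    induction n with
    | zero => exact D.P_of_iso e0.symm hc
    | succ n ih => exact D.quotP (d n) ih (D.cokQ _ (hXQ _) (hXQ _))
  have hDP : ∀ n, D.P (kernel (d n)) := fun n => D.kerP _ (hCP n) (D.le (hCP (n + 1)))
  -- the kernels
  let k0 : kernel (p 0) ≅ kernel T :=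
    (kernelCompMono (p 0) (ι 0)).symm ≪≫ kernelIsoOfEq (hpι 0)
  have hKP : ∀ n, D.P (kernel (p n)) := fun n => by
    induction n with
    | zero => exact D.P_of_iso k0.symm hk
    | succ n ih => exact @Data.subP _ _ _ _ D _ _ (L n).f (hLm n) (D.kerQ _ (hXQ _) (hXQ _)) ih
  have hKlf : D.LF (fun n => kernel (p n)) :=
    D.mono (fun n => kernel.ι (p n)) (fun n => inferInstance) hXlf
  have hClf : D.LF (fun n => cokernel (ι n)) :=
    D.epi (fun n => cokernel.π (ι n)) (fun n => inferInstance) hXlf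
  have hk' : D.cls (∐ fun n => kernel (d n)) = D.cls (kernel (p 0)) :=
    @Data.cls_swindle_mono _ _ _ _ _ D (fun n => kernel (p n)) hKlf hKP (fun n => (L n).f) hLm
      (fun n => kernel (d n)) (fun n => (L n).g) (fun n => (L n).zero) hL hDP
  have hc' : D.cls (∐ fun n => kernel (d n)) = D.cls (cokernel (ι 0)) :=
    D.cls_swindle_epi (fun n => cokernel (ι n)) hClf hCP (fun n => kernel (d n))
      (fun n => kernel.ι (d n)) d (fun n => kernel.condition _) (fun n => shortExact_of_epi (d n)) hDP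
  rw [← D.cls_congr k0 (hKP 0), ← hk', hc', D.cls_congr e0 (hCP 0)]

end

end Groth.Agent.Lib.Cyc.Dev.Swindle
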